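import Groth.Agent.Lib.CFEquiv7.Killed
import Groth.Prelude.Def_Formal2

/-!
# Coherent formal modules depend only on the zero locus
-/

set_option autoImplicit false

universe u

open CategoryTheory CategoryTheory.Limits AlgebraicGeometry Opposite TopologicalSpace

namespace GrothLib.CFEquiv7

open GrothLib.FormalSys

variable {A : Type u} [CommRing A] {X : Scheme.{u}} [X.Over (Spec (CommRingCat.of A))]

theorem isQuot_trans {J K : Ideal A} {M N P : X.Modules} {π : M ⟶ N} {ρ : N ⟶ P} (hπ : IsQuot J π)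
    (hρ : IsQuot K ρ) (hK : Formal.KilledBy J (cokernel (Formal.smulFamily K M))) : IsQuot K (π ≫ ρ) := by
  have := hπ.epi
  have := hρ.epi
  refine IsQuot.mk' (fun a ha => by rw [smulMod_naturality_assoc, hρ.comp_eq_zero a ha, comp_zero]) ?_
  obtain ⟨χ, hχ⟩ := hπ.exists_desc' (cokernel.π (Formal.smulFamily K M)) hK
  obtain ⟨ω, hω⟩ := hρ.exists_desc' χ (IsQuot.cokernelπ K M).killedBy
  exact ⟨ω, by rw [Category.assoc, hω, hχ]⟩

variable (I J : Ideal A) (a : ℕ)
  (ha : ∀ (k : ℕ) (M : X.Modules), Formal.KilledBy (J ^ k) M → Formal.KilledBy (I ^ (a * k)) M)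

theorem mul_succ_le (n : ℕ) : a * (n + 1) ≤ a * (n + 1 + 1) := Nat.mul_le_mul_left a (Nat.le_succ _)

theorem exists_trans (G : ℕᵒᵖ ⥤ X.Modules) (n : ℕ) :
    ∃ t : Formal.modPow J (n + 1 + 1) (G.obj (op (a * (n + 1 + 1)))) ⟶
        Formal.modPow J (n + 1) (G.obj (op (a * (n + 1)))),
      Formal.modPowπ J (n + 1 + 1) _ ≫ t =
        G.map (homOfLE (mul_succ_le a n)).op ≫ Formal.modPowπ J (n + 1) _ :=
  (IsQuot.modPowπ J (n + 1 + 1) _).exists_desc' _
    (killedBy_mono (Ideal.pow_le_pow_right (Nat.le_succ _)) (killedBy_modPow (n + 1) _))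

/-- The reindexed system. -/
noncomputable def sys (G : ℕᵒᵖ ⥤ X.Modules) : ℕᵒᵖ ⥤ X.Modules :=
  Functor.ofOpSequence (X := fun n => Formal.modPow J (n + 1) (G.obj (op (a * (n + 1)))))
    (fun n => (exists_trans J a G n).choose)

/-- The projection from the level `a (n+1)` to its reduction modulo `J^(n+1)`. -/
noncomputable def proj (G : ℕᵒᵖ ⥤ X.Modules) (n : ℕ) :
    G.obj (op (a * (n + 1))) ⟶ (sys J a G).obj (op n) :=
  Formal.modPowπ J (n + 1) (G.obj (op (a * (n + 1))))

theorem isQuot_proj (G : ℕᵒᵖ ⥤ X.Modules) (n : ℕ) : IsQuot (J ^ (n + 1)) (proj J a G n) :=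
  IsQuot.modPowπ J (n + 1) (G.obj (op (a * (n + 1))))

theorem killedBy_sys (G : ℕᵒᵖ ⥤ X.Modules) (n : ℕ) : Formal.KilledBy (J ^ (n + 1)) ((sys J a G).obj (op n)) :=
  (isQuot_proj J a G n).killedBy

theorem sys_map_succ (G : ℕᵒᵖ ⥤ X.Modules) (n : ℕ) :
    (sys J a G).map (homOfLE (Nat.le_succ n)).op = (exists_trans J a G n).choose :=
  Functor.ofOpSequence_map_homOfLE_succ _ n

theorem proj_sys_map_succ (G : ℕᵒᵖ ⥤ X.Modules) (n : ℕ) :
    proj J a G (n + 1) ≫ (sys J a G).map (homOfLE (Nat.le_succ n)).op =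
      G.map (homOfLE (mul_succ_le a n)).op ≫ proj J a G n :=
  (congrArg (proj J a G (n + 1) ≫ ·) (sys_map_succ J a G n)).trans (exists_trans J a G n).choose_spec

theorem exists_natTrans {G H : ℕᵒᵖ ⥤ X.Modules} (f : G ⟶ H) :
    ∃ β : sys J a G ⟶ sys J a H, ∀ n, proj J a G n ≫ β.app (op n) = f.app (op (a * (n + 1))) ≫ proj J a H n := by
  choose φ hφ using fun n => (isQuot_proj J a G n).exists_desc'
    (f.app _ ≫ proj J a H n) (killedBy_sys J a H n)
  refine ⟨natTrans φ fun n => ?_, fun n => hφ n⟩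
  haveI := (isQuot_proj J a G (n + 1)).epi
  rw [← cancel_epi (proj J a G (n + 1)), ← Category.assoc, proj_sys_map_succ, Category.assoc, hφ,
    ← Category.assoc (proj J a G (n + 1)), hφ, Category.assoc, proj_sys_map_succ, ← Category.assoc,
    f.naturality, Category.assoc]

theorem sys_hom_ext {G : ℕᵒᵖ ⥤ X.Modules} {T : ℕᵒᵖ ⥤ X.Modules} {β β' : sys J a G ⟶ T}
    (h : ∀ n, proj J a G n ≫ β.app (op n) = proj J a G n ≫ β'.app (op n)) : β = β' := by
  ext n : 2
  haveI : Epi (proj J a G n.unop) := (isQuot_proj J a G n.unop).epi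
  exact (cancel_epi (proj J a G n.unop)).1 (h n.unop)

include ha in
theorem isCohFormal_sys [IsNoetherian X] {G : ℕᵒᵖ ⥤ X.Modules} (hG : Formal.IsCohFormal I G) :
    Formal.IsCohFormal J (sys J a G) := by
  refine ⟨fun n => FormalFun.isCoh_modPow J (n + 1) (hG.1 _), fun n => killedBy_modPow (n + 1) _, fun n => ?_⟩
  refine IsQuot.of_comp (isQuot_proj J a G (n + 1)) ?_
  erw [proj_sys_map_succ]
  exact isQuot_trans (isQuot_map hG (mul_succ_le a n)) (isQuot_proj J a G n)
    (killedBy_mono (Ideal.pow_le_pow_right (Nat.le_succ _)) (ha (n + 1) _ (IsQuot.cokernelπ _ _).killedBy))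

variable [IsNoetherian X]

/-- Changing the ideal. -/
noncomputable def change : Formal2.CohFormalCat I X ⥤ Formal2.CohFormalCat J X where
  obj G := ⟨sys J a G.obj, isCohFormal_sys I J a ha G.property⟩
  map f := ObjectProperty.homMk (exists_natTrans J a f.hom).choose
  map_id G := ObjectProperty.hom_ext _ <| sys_hom_ext J a fun n => by
    refine ((exists_natTrans J a (𝟙 G.obj)).choose_spec n).trans ?_
    exact (Category.id_comp _).trans (Category.comp_id _).symm
  map_comp {G H K} f g := ObjectProperty.hom_ext _ <| sys_hom_ext J a fun n => by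
    refine ((exists_natTrans J a (f.hom ≫ g.hom)).choose_spec n).trans ?_
    refine Eq.trans ?_ (Category.assoc _ _ _)
    refine Eq.trans ?_ (congrArg (· ≫ _) ((exists_natTrans J a f.hom).choose_spec n)).symm
    refine (Category.assoc _ _ _).trans ?_
    refine Eq.trans ?_ (Category.assoc _ _ _).symm
    exact congrArg (_ ≫ ·) ((exists_natTrans J a g.hom).choose_spec n).symm

variable (b : ℕ)

theorem le_double (ha0 : 1 ≤ a) (hb0 : 1 ≤ b) (n : ℕ) : n ≤ a * (b * (n + 1) + 1) :=
  calc n ≤ 1 * (n + 1) := by omega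
    _ ≤ b * (n + 1) := Nat.mul_le_mul_right _ hb0
    _ ≤ 1 * (b * (n + 1) + 1) := by omega
    _ ≤ a * (b * (n + 1) + 1) := Nat.mul_le_mul_right _ ha0

/-- The composite projection to the twice changed system. -/
noncomputable def proj₂ (G : ℕᵒᵖ ⥤ X.Modules) (n : ℕ) :
    G.obj (op (a * (b * (n + 1) + 1))) ⟶ (sys I b (sys J a G)).obj (op n) :=
  proj J a G (b * (n + 1)) ≫ proj I b (sys J a G) n

theorem proj₂_map_succ (G : ℕᵒᵖ ⥤ X.Modules) (n : ℕ) :
    proj₂ I J a b G (n + 1) ≫ (sys I b (sys J a G)).map (homOfLE (Nat.le_succ n)).op =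
      G.map (homOfLE (Nat.mul_le_mul_left a (Nat.succ_le_succ (mul_succ_le b n)))).op ≫ proj₂ I J a b G n := by
  have h : ∀ p q : ℕ, ∀ (hpq : p ≤ q), proj J a G q ≫ (sys J a G).map (homOfLE hpq).op =
      G.map (homOfLE (Nat.mul_le_mul_left a (Nat.succ_le_succ hpq))).op ≫ proj J a G p := by
    intro p q hpq
    induction q, hpq using Nat.le_induction with
    | base =>
      rw [show (sys J a G).map (homOfLE (le_refl p)).op = 𝟙 _ from (sys J a G).map_id _,
        show G.map (homOfLE (le_refl (a * (p + 1)))).op = 𝟙 _ from G.map_id _]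
      exact (Category.comp_id _).trans (Category.id_comp _).symm
    | succ q hq ih =>
      rw [show (homOfLE (hq.trans (Nat.le_succ q))).op = (homOfLE (Nat.le_succ q)).op ≫ (homOfLE hq).op from rfl,
        Functor.map_comp, ← Category.assoc, proj_sys_map_succ, Category.assoc, ih, ← Category.assoc,
        ← Functor.map_comp]
      rfl
  rw [proj₂, Category.assoc, proj_sys_map_succ, ← Category.assoc, h _ _ (mul_succ_le b n), Category.assoc]
  rfl

variable (hb : ∀ (k : ℕ) (M : X.Modules), Formal.KilledBy (I ^ k) M → Formal.KilledBy (J ^ (b * k)) M)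

include hb in
theorem isQuot_proj₂ (G : ℕᵒᵖ ⥤ X.Modules) (n : ℕ) : IsQuot (I ^ (n + 1)) (proj₂ I J a b G n) :=
  isQuot_trans (isQuot_proj J a G (b * (n + 1))) (isQuot_proj I b (sys J a G) n)
    (killedBy_mono (Ideal.pow_le_pow_right (Nat.le_succ _)) (hb (n + 1) _ (IsQuot.cokernelπ _ _).killedBy))

include hb in
theorem exists_changeIso (ha0 : 1 ≤ a) (hb0 : 1 ≤ b) {G : ℕᵒᵖ ⥤ X.Modules} (hG : Formal.IsCohFormal I G) :
    ∃ e : sys I b (sys J a G) ≅ G,
      ∀ n, proj₂ I J a b G n ≫ e.hom.app (op n) = G.map (homOfLE (le_double a b ha0 hb0 n)).op := by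
  choose e he using fun n => (isQuot_proj₂ I J a b hb G n).exists_iso (isQuot_map hG (le_double a b ha0 hb0 n))
  have hnat : ∀ n, (sys I b (sys J a G)).map (homOfLE (Nat.le_succ n)).op ≫ (e n).hom =
      (e (n + 1)).hom ≫ G.map (homOfLE (Nat.le_succ n)).op := fun n => by
    haveI := (isQuot_proj₂ I J a b hb G (n + 1)).epi
    rw [← cancel_epi (proj₂ I J a b G (n + 1)), ← Category.assoc, proj₂_map_succ, Category.assoc, he,
      ← Category.assoc, he, ← Functor.map_comp, ← Functor.map_comp]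
    rfl
  let β : sys I b (sys J a G) ⟶ G := natTrans (fun n => (e n).hom) hnat
  have hall : ∀ k, IsIso (β.app k) := fun k => inferInstanceAs (IsIso (e k.unop).hom)
  haveI := NatIso.isIso_of_isIso_app β
  exact ⟨asIso β, fun n => he n⟩

include ha hb in
theorem nonempty_iso_change_change (ha0 : 1 ≤ a) (hb0 : 1 ≤ b) :
    Nonempty (change I J a ha ⋙ change J I b hb ≅ 𝟭 (Formal2.CohFormalCat I X)) := by
  choose e he using fun G : Formal2.CohFormalCat I X => exists_changeIso I J a b hb ha0 hb0 G.property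
  refine ⟨NatIso.ofComponents (fun G => ObjectProperty.isoMk _ (e G)) fun {G H} f => ObjectProperty.hom_ext _ ?_⟩
  refine sys_hom_ext I b fun n => ?_
  haveI := (isQuot_proj J a G.obj (b * (n + 1))).epi
  refine (cancel_epi (proj J a G.obj (b * (n + 1)))).1 ?_
  show proj J a G.obj (b * (n + 1)) ≫ proj I b (sys J a G.obj) n ≫
      ((exists_natTrans I b (exists_natTrans J a f.hom).choose).choose.app (op n) ≫ (e H).hom.app (op n)) =
    proj J a G.obj (b * (n + 1)) ≫ proj I b (sys J a G.obj) n ≫ ((e G).hom.app (op n) ≫ f.hom.app (op n))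
  rw [← Category.assoc (proj I b (sys J a G.obj) n), (exists_natTrans I b _).choose_spec n, Category.assoc,
    ← Category.assoc (proj J a G.obj (b * (n + 1))), (exists_natTrans J a f.hom).choose_spec, Category.assoc]
  have hG := he G n
  have hH := he H n
  simp only [proj₂, Category.assoc] at hG hH
  rw [hH, reassoc_of% hG, f.hom.naturality]

end GrothLib.CFEquiv7
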