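import Groth.Agent.Lib.FormalFun.HomComplete

/-!
# Two ideals with the same zero locus kill the same modules up to powers
-/

set_option autoImplicit false

universe u

open CategoryTheory CategoryTheory.Limits AlgebraicGeometry Opposite TopologicalSpace

namespace GrothLib.CFEquiv7

open GrothLib.FormalFun (toSec toStalk germ_toSec stalkLin_smulMod)
open GrothLib.QCoh (stalkLin)

variable {A : Type u} [CommRing A] {X : Scheme.{u}} [X.Over (Spec (CommRingCat.of A))]

theorem mem_basicOpen_toGlobal_iff (a : A) (x : X) :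
    x ∈ X.basicOpen (show Γ(X, ⊤) from Coh.toGlobal (X ↘ Spec (CommRingCat.of A)) a) ↔
      a ∉ ((X ↘ Spec (CommRingCat.of A)) x).asIdeal := by
  have h := Scheme.preimage_basicOpen (X ↘ Spec (CommRingCat.of A))
    ((Scheme.ΓSpecIso (CommRingCat.of A)).inv a)
  rw [basicOpen_eq_of_affine] at h
  change x ∈ X.basicOpen ((X ↘ Spec (CommRingCat.of A)).appTop ((Scheme.ΓSpecIso (CommRingCat.of A)).inv a)) ↔ _
  change x ∈ X.basicOpen ((X ↘ Spec (CommRingCat.of A)).app ⊤ ((Scheme.ΓSpecIso (CommRingCat.of A)).inv a)) ↔ _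
  erw [← h]
  exact PrimeSpectrum.mem_basicOpen _ _

theorem exists_pow_map_toSec_le [IsNoetherian X] (I J : Ideal A)
    (hV : (fun x : X => (X ↘ Spec (CommRingCat.of A)) x) ⁻¹' PrimeSpectrum.zeroLocus (J : Set A) ⊆
      (fun x : X => (X ↘ Spec (CommRingCat.of A)) x) ⁻¹' PrimeSpectrum.zeroLocus (I : Set A))
    {U : X.Opens} (hU : IsAffineOpen U) : ∃ a : ℕ, I.map (toSec A U) ^ a ≤ J.map (toSec A U) := by
  haveI : IsNoetherianRing Γ(X, U) := IsLocallyNoetherian.component_noetherian ⟨U, hU⟩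
  refine Ideal.exists_pow_le_of_le_radical_of_fg ?_ ((isNoetherianRing_iff_ideal_fg _).1 inferInstance _)
  rw [Ideal.radical_eq_sInf, le_sInf_iff]
  rintro p ⟨hp, hpr⟩
  let x : X := hU.fromSpec ⟨p, hpr⟩
  have key : ∀ a : A, toSec A U a ∈ p ↔ a ∈ ((X ↘ Spec (CommRingCat.of A)) x).asIdeal := fun a => by
    rw [← not_iff_not, ← mem_basicOpen_toGlobal_iff (X := X) a x]
    have h1 : X.basicOpen (toSec A U a) =
        U ⊓ X.basicOpen (show Γ(X, ⊤) from Coh.toGlobal (X ↘ Spec (CommRingCat.of A)) a) :=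
      Scheme.basicOpen_res _ _ _
    have h2 : x ∈ X.basicOpen (toSec A U a) ↔ toSec A U a ∉ p := by
      have := hU.fromSpec_preimage_basicOpen (toSec A U a)
      rw [show x ∈ X.basicOpen (toSec A U a) ↔ (⟨p, hpr⟩ : PrimeSpectrum Γ(X, U)) ∈
        hU.fromSpec ⁻¹ᵁ X.basicOpen (toSec A U a) from Iff.rfl, this]
      exact PrimeSpectrum.mem_basicOpen _ _
    rw [← h2, h1]
    exact ⟨fun h => h.2, fun h => ⟨hU.range_fromSpec.subset ⟨⟨p, hpr⟩, rfl⟩, h⟩⟩
  have hJ : x ∈ (fun x : X => (X ↘ Spec (CommRingCat.of A)) x) ⁻¹' PrimeSpectrum.zeroLocus (J : Set A) :=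
    fun a ha => (key a).1 (hp (Ideal.mem_map_of_mem _ ha))
  exact Ideal.map_le_iff_le_comap.2 fun a ha => (key a).2 (hV hJ ha)

theorem exists_mul_killedBy [IsNoetherian X] (I J : Ideal A)
    (hV : (fun x : X => (X ↘ Spec (CommRingCat.of A)) x) ⁻¹' PrimeSpectrum.zeroLocus (J : Set A) ⊆
      (fun x : X => (X ↘ Spec (CommRingCat.of A)) x) ⁻¹' PrimeSpectrum.zeroLocus (I : Set A)) :
    ∃ a : ℕ, ∀ (k : ℕ) (M : X.Modules), Formal.KilledBy (J ^ k) M → Formal.KilledBy (I ^ (a * k)) M := by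
  classical
  obtain ⟨T, hT⟩ := isCompact_univ.elim_finite_subcover (fun U : X.affineOpens => (U.1 : Set X))
    (fun U => U.1.2) (fun x _ => by
      obtain ⟨U, hU, hxU, -⟩ := exists_isAffineOpen_mem_and_subset (show x ∈ (⊤ : X.Opens) from trivial)
      exact Set.mem_iUnion.mpr ⟨⟨U, hU⟩, hxU⟩)
  choose a ha using fun U : X.affineOpens => exists_pow_map_toSec_le I J hV U.2
  refine ⟨T.sup a, fun k M hM c hc => FormalFun.hom_ext_stalkLin fun y v => ?_⟩
  rw [stalkLin_smulMod, FormalFun.stalkLin_zero]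
  obtain ⟨U, hUT, hyU⟩ := Set.mem_iUnion₂.1 (hT (Set.mem_univ y))
  have h1 : toSec A U.1 c ∈ (J ^ k).map (toSec A U.1) := by
    rw [Ideal.map_pow]
    refine Ideal.pow_right_mono ((Ideal.pow_le_pow_right (Finset.le_sup hUT)).trans (ha U)) k ?_
    rw [← pow_mul, ← Ideal.map_pow]
    exact Ideal.mem_map_of_mem _ hc
  have h2 : toStalk A y c ∈ (J ^ k).map (toStalk A y) := by
    have := Ideal.mem_map_of_mem (X.presheaf.germ U.1 y hyU).hom h1
    rw [Ideal.map_map] at this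
    rw [← germ_toSec hyU c]
    convert this using 2
    exact RingHom.ext fun b => (germ_toSec hyU b).symm
  refine Submodule.span_induction (p := fun z _ => z • v = 0) ?_ (zero_smul _ _) ?_ ?_ h2
  · rintro _ ⟨b, hb, rfl⟩
    rw [← stalkLin_smulMod, hM b hb, FormalFun.stalkLin_zero]
  · intro z w _ _ hz hw; rw [add_smul, hz, hw, add_zero]
  · intro r z _ hz; rw [smul_assoc, hz, smul_zero]

end GrothLib.CFEquiv7
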